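import Groth.Agent.ZeroLocusLib.Ends
import Groth.Agent.S0611

/-! # The family `t v = (1 - t) s` -/

set_option autoImplicit false
set_option backward.isDefEq.respectTransparency false
set_option backward.defeqAttrib.useBackward true
set_option linter.style.haveILetI false

universe u

open CategoryTheory CategoryTheory.Limits AlgebraicGeometry TopologicalSpace Opposite
open Groth.Agent.PullbackMod Groth.Agent.VBundLib

noncomputable section

namespace Groth.Agent.ZeroLocusLib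

/-- `T` is regular modulo the deformed sequence. -/
theorem mem_nonZeroDivisors_quotient {R O A : Type u} [CommRing R] [IsLocalRing R] [IsNoetherianRing R] [CommRing O]
    [IsLocalRing O] [CommRing A] (S : R →+* O) (hS : Function.Surjective S) (T : R) (hker : RingHom.ker S = Ideal.span {T})
    (hT : T ∈ nonZeroDivisors R) {r : ℕ} (σ diff α : Fin r → R) (hdiff : ∀ l, diff l = T * α l - (1 - T) * σ l)
    (hσ : RingTheory.Sequence.IsWeaklyRegular O (List.ofFn fun l => S (σ l)))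
    (hσm : ∀ l, σ l ∈ IsLocalRing.maximalIdeal R) (hTm : T ∈ IsLocalRing.maximalIdeal R)
    (q : R →+* A) (hq : Function.Surjective q) (hqk : RingHom.ker q = Ideal.span (Set.range diff)) :
    q T ∈ nonZeroDivisors A := by
  have hspan : Ideal.span (Set.range (Fin.cons T σ : Fin (r + 1) → R)) =
      Ideal.span (Set.range (Fin.snoc diff T : Fin (r + 1) → R)) := by
    refine le_antisymm (Ideal.span_le.2 (Set.range_subset_iff.2 fun j => ?_))
      (Ideal.span_le.2 (Set.range_subset_iff.2 fun j => ?_))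
    · refine Fin.cases ?_ (fun l => ?_) j
      · exact Ideal.subset_span ⟨Fin.last r, by simp⟩
      · simp only [Fin.cons_succ, SetLike.mem_coe]
        have h1 : diff l ∈ Ideal.span (Set.range (Fin.snoc diff T : Fin (r + 1) → R)) :=
          Ideal.subset_span ⟨l.castSucc, by simp⟩
        have h2 : T ∈ Ideal.span (Set.range (Fin.snoc diff T : Fin (r + 1) → R)) :=
          Ideal.subset_span ⟨Fin.last r, by simp⟩
        rw [show σ l = (α l + σ l) * T - diff l by rw [hdiff]; ring]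
        exact sub_mem (Ideal.mul_mem_left _ _ h2) h1
    · refine Fin.lastCases ?_ (fun l => ?_) j
      · simp only [Fin.snoc_last, SetLike.mem_coe]
        exact Ideal.subset_span ⟨0, by simp⟩
      · simp only [Fin.snoc_castSucc, SetLike.mem_coe]
        have h1 : σ l ∈ Ideal.span (Set.range (Fin.cons T σ : Fin (r + 1) → R)) :=
          Ideal.subset_span ⟨l.succ, by simp⟩
        have h2 : T ∈ Ideal.span (Set.range (Fin.cons T σ : Fin (r + 1) → R)) := Ideal.subset_span ⟨0, by simp⟩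
        rw [hdiff]
        exact sub_mem (Ideal.mul_mem_right _ _ h2) (Ideal.mul_mem_left _ _ h1)
  have hreg : RingTheory.Sequence.IsRegular R (List.ofFn (Fin.cons T σ : Fin (r + 1) → R)) := by
    refine (IsLocalRing.isRegular_iff_isWeaklyRegular_of_subset_maximalIdeal (fun x hx => ?_)).2 ?_
    · rw [List.mem_ofFn] at hx
      obtain ⟨j, rfl⟩ := hx
      refine Fin.cases ?_ (fun l => ?_) j
      · simpa using hTm
      · simpa using hσm l
    · rw [List.ofFn_succ]
      simp only [Fin.cons_zero, Fin.cons_succ]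
      rw [RingTheory.Sequence.isWeaklyRegular_cons_iff]
      refine ⟨fun a b h => mul_cancel_left_mem_nonZeroDivisors hT |>.1 h, ?_⟩
      letI : Algebra R O := S.toAlgebra
      have h1 : RingTheory.Sequence.IsWeaklyRegular O (List.ofFn σ) := by
        rw [← RingTheory.Sequence.isWeaklyRegular_map_algebraMap_iff (S := O) O]
        rw [List.map_ofFn]
        exact hσ
      refine (LinearEquiv.isWeaklyRegular_congr ?_ _).2 h1
      exact Submodule.quotEquivOfEq _ _ (by
        rw [← Submodule.ideal_span_singleton_smul, smul_eq_mul, Ideal.mul_top, ← hker]; rfl) ≪≫ₗ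
        (Algebra.linearMap R O).quotKerEquivOfSurjective hS
  have hb := S0611.result (Fin.cons T σ : Fin (r + 1) → R) (Fin.snoc diff T) hreg hspan
  have h2 := hb.toIsWeaklyRegular
  rw [List.ofFn_succ', List.concat_eq_append, RingTheory.Sequence.isWeaklyRegular_append_iff] at h2
  simp only [Fin.snoc_castSucc, Fin.snoc_last, RingTheory.Sequence.isWeaklyRegular_singleton_iff] at h2
  have h3 := h2.2
  refine mem_nonZeroDivisors_iff_right.2 fun a ha => ?_
  obtain ⟨a, rfl⟩ := hq a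
  rw [← map_mul, ← RingHom.mem_ker, hqk] at ha
  rw [← RingHom.mem_ker, hqk]
  have hI : (Ideal.ofList (List.ofFn fun i => (Fin.snoc diff T : Fin (r + 1) → R) i.castSucc) • (⊤ : Submodule R R)) =
      Ideal.span (Set.range diff) := by
    simp only [Fin.snoc_castSucc]
    rw [smul_eq_mul, Ideal.mul_top, Ideal.ofList]
    congr 1
    ext x
    simp [List.mem_ofFn]
  have h4 := h3 (a₁ := Submodule.Quotient.mk a) (a₂ := 0) (by
    show T • Submodule.Quotient.mk a = T • (0 : R ⧸ _)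
    rw [smul_zero, ← Submodule.Quotient.mk_smul, Submodule.Quotient.mk_eq_zero, hI, smul_eq_mul, mul_comm]
    exact ha)
  rwa [Submodule.Quotient.mk_eq_zero, hI] at h4

variable {X : Scheme.{u}} {G : X.Modules}

theorem pullCoord_congr_iff {T S : Scheme.{u}} {g : T ⟶ X} (k : S ⟶ T) {g' : S ⟶ X} (w : k ≫ g = g') (d d' : Coord g G) :
    pullCoord k w d = pullCoord k w d' ↔ pullCoord k rfl d = pullCoord k rfl d' := by
  subst w; rfl

theorem pullCoord_zero {T S : Scheme.{u}} {g : T ⟶ X} (k : S ⟶ T) {g' : S ⟶ X} (w : k ≫ g = g') :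
    pullCoord k w (0 : Coord g G) = 0 :=
  coord_ext fun U _ e => by rw [cval_pullCoord]; exact map_zero _

theorem zero_smulCoord {T : Scheme.{u}} {g : T ⟶ X} (d : Coord g G) : smulCoord 0 d = 0 :=
  coord_ext fun U _ e => by rw [cval_smulCoord, map_zero, zero_mul]; exact rfl

theorem smulCoord_zero {T : Scheme.{u}} {g : T ⟶ X} (m : Γ(T, ⊤)) : smulCoord m (0 : Coord g G) = 0 :=
  coord_ext fun U _ e => by rw [cval_smulCoord]; exact mul_zero _

theorem sval_pullBase {S : Scheme.{u}} (g : S ⟶ X) (d : Coord (𝟙 X) G) (t : S) (e : G.presheaf.stalk (g t)) :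
    sval (pullCoord g (Category.comp_id g) d) t e = g.stalkMap t (sval d (g t) e) := by
  obtain ⟨U, hx, e, rfl⟩ := TopCat.Presheaf.exists_germ_eq G.presheaf e
  refine (sval_germ (g := g) _ t hx e).trans ?_
  refine Eq.trans ?_ (congrArg (g.stalkMap t).hom (sval_germ (g := 𝟙 X) d (g t) (U := U) hx e)).symm
  rw [cval_pullCoord]
  refine Eq.trans ?_ (Scheme.Hom.germ_stalkMap_apply g U t hx _).symm
  rw [Scheme.Hom.app_eq_appLE]
  rfl

variable {V : Scheme.{u}} {p : V ⟶ X} (c : Coord p G) (σ : Coord (𝟙 X) G)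

/-- The left side of the equation of the family. -/
def famL : Coord (lineπ V ≫ p) G := smulCoord (lineT V) (pullCoord (lineπ V) rfl c)

/-- The right side of the equation of the family. -/
def famR : Coord (lineπ V ≫ p) G :=
  smulCoord (1 - lineT V) (pullCoord (lineπ V ≫ p) (Category.comp_id _) σ)

theorem lineSect_base (a : Γ(V, ⊤)) : lineSect a ≫ lineπ V ≫ p = p := by
  rw [← Category.assoc, lineSect_π, Category.id_comp]

theorem pullCoord_famL (a : Γ(V, ⊤)) : pullCoord (lineSect a) (lineSect_base a) (famL c) = smulCoord a c := by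
  rw [famL, pullCoord_smulCoord, lineSect_T, pullCoord_comp]
  simp only [lineSect_π]
  rw [pullCoord_id]

theorem pullCoord_famR (a : Γ(V, ⊤)) :
    pullCoord (lineSect a) (lineSect_base a) (famR σ) = smulCoord (1 - a) (pullCoord p (Category.comp_id p) σ) := by
  rw [famR, pullCoord_smulCoord, map_sub, map_one, lineSect_T, pullCoord_comp]
  simp only [lineSect_base]

variable {c σ} {W : Scheme.{u}} (ι : W ⟶ Line V) [IsClosedImmersion ι]
  (hι : ∀ (S : Scheme.{u}) (k : S ⟶ Line V), (∃ l, l ≫ ι = k) ↔ pullCoord k rfl (famL c) = pullCoord k rfl (famR σ))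

include hι in
theorem factors_snd (a : Γ(V, ⊤)) (S : Scheme.{u}) (k : S ⟶ V) :
    (∃ l, l ≫ pullback.snd ι (lineSect a) = k) ↔
      pullCoord k rfl (smulCoord a c) = pullCoord k rfl (smulCoord (1 - a) (pullCoord p (Category.comp_id p) σ)) := by
  have h1 : (∃ l, l ≫ pullback.snd ι (lineSect a) = k) ↔ ∃ l, l ≫ ι = k ≫ lineSect a := by
    constructor
    · rintro ⟨l, rfl⟩
      exact ⟨l ≫ pullback.fst ι (lineSect a), by rw [Category.assoc, pullback.condition, Category.assoc]⟩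
    · rintro ⟨l, hl⟩
      exact ⟨pullback.lift l k hl, pullback.lift_snd _ _ _⟩
  have hw : (k ≫ lineSect a) ≫ lineπ V ≫ p = k ≫ p := by rw [Category.assoc, lineSect_base]
  rw [h1, hι, ← pullCoord_congr_iff _ hw, ← pullCoord_famL c a, ← pullCoord_famR σ a, pullCoord_comp, pullCoord_comp]

variable (hc : IsVB p c)

include hc hι in
/-- Off `t = 0` the family is the affine line over the base. -/
theorem exists_chart {δ : X → ℤ} {δY : Line V → ℤ} (hδY : Cyc.DeltaCompat (lineπ V ≫ p) δY δ)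
    {δB : Line X → ℤ} (hδB : Cyc.DeltaCompat (lineπ X) δB δ) :
    ∃ φ : W ⟶ Line X, φ ≫ lineπ X = ι ≫ lineπ V ≫ p ∧ φ.appTop (lineT X) = ι.appTop (lineT V) ∧
      ∀ z : W, IsUnit ((Line V).presheaf.germ ⊤ (ι z) trivial (lineT V)) →
        δY (ι z) = δB (φ z) ∧ Function.Bijective (φ.stalkMap z) := by
  let φ : W ⟶ Line X := AffineSpace.homOfVector (ι ≫ lineπ V ≫ p) (fun _ => ι.appTop (lineT V))
  have hφπ : φ ≫ lineπ X = ι ≫ lineπ V ≫ p := AffineSpace.homOfVector_over _ _
  have hφT : φ.appTop (lineT X) = ι.appTop (lineT V) := AffineSpace.homOfVector_appTop_coord _ _ _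
  refine ⟨φ, hφπ, hφT, ?_⟩
  let D : (Line X).Opens := (Line X).basicOpen (lineT X)
  let jD : (D : Scheme.{u}) ⟶ Line X := D.ι
  let T' : Γ((D : Scheme.{u}), ⊤) := jD.appTop (lineT X)
  have hu : IsUnit T' := by
    have h := RingedSpace.isUnit_res_basicOpen (Line X).toLocallyRingedSpace.toRingedSpace (lineT X)
    have e : T' = D.topIso.inv ((Line X).presheaf.map (homOfLE (le_top : D ≤ ⊤)).op (lineT X)) := by
      rw [← CommRingCat.comp_apply]
      congr 1
      simp [T', jD, Scheme.Opens.topIso, ← Functor.map_comp]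
    rw [e]
    exact (h.map _)
  let u' : Γ((D : Scheme.{u}), ⊤) := ↑hu.unit⁻¹
  have huT : T' * u' = 1 := hu.mul_val_inv
  let S' : Coord (jD ≫ lineπ X) G := pullCoord (jD ≫ lineπ X) (Category.comp_id _) σ
  obtain ⟨b, ⟨wb, eb⟩, -⟩ := hc (jD ≫ lineπ X) (smulCoord (u' * (1 - T')) S')
  let bY : (D : Scheme.{u}) ⟶ Line V := AffineSpace.homOfVector b (fun _ => T')
  have hbπ : bY ≫ lineπ V = b := AffineSpace.homOfVector_over _ _
  have hbT : bY.appTop (lineT V) = T' := AffineSpace.homOfVector_appTop_coord _ _ _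
  have hbb : bY ≫ lineπ V ≫ p = jD ≫ lineπ X := by rw [← Category.assoc, hbπ, wb]
  obtain ⟨l, hl⟩ := (hι _ bY).2 ((pullCoord_congr_iff bY hbb _ _).1 (by
    rw [famL, famR, pullCoord_smulCoord, pullCoord_smulCoord, map_sub, map_one, hbT, pullCoord_comp, pullCoord_comp]
    simp only [hbπ, hbb]
    rw [eb, smulCoord_smulCoord, ← mul_assoc, huT, one_mul]))
  have hlφ : l ≫ φ = jD := by
    refine AffineSpace.hom_ext (by rw [Category.assoc, hφπ, reassoc_of% hl, hbb]) fun i => ?_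
    obtain ⟨i⟩ := i
    rw [show (⟨i⟩ : CycLib.AffBundle.Idx.{u} 1) = ⟨0⟩ from congrArg ULift.up (Subsingleton.elim _ _), Scheme.Hom.comp_appTop,
      CommRingCat.comp_apply, hφT, ← CommRingCat.comp_apply, ← Scheme.Hom.comp_appTop, hl, hbT]
  let W₀ : W.Opens := φ ⁻¹ᵁ D
  let φ₀ : (W₀ : Scheme.{u}) ⟶ (D : Scheme.{u}) := φ ∣_ D
  have hφ₀ : φ₀ ≫ jD = W₀.ι ≫ φ := morphismRestrict_ι φ D
  have hT0 : φ₀.appTop T' = (W₀.ι ≫ ι).appTop (lineT V) := by
    rw [← CommRingCat.comp_apply, ← Scheme.Hom.comp_appTop, hφ₀, Scheme.Hom.comp_appTop, CommRingCat.comp_apply, hφT,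
      ← CommRingCat.comp_apply, ← Scheme.Hom.comp_appTop]
  have hinv : φ₀ ≫ l = W₀.ι := by
    rw [← cancel_mono ι, Category.assoc, hl]
    refine AffineSpace.hom_ext ?_ fun i => ?_
    swap
    · obtain ⟨i⟩ := i
      rw [show (⟨i⟩ : CycLib.AffBundle.Idx.{u} 1) = ⟨0⟩ from congrArg ULift.up (Subsingleton.elim _ _),
        Scheme.Hom.comp_appTop φ₀, CommRingCat.comp_apply, hbT, hT0]
    rw [Category.assoc, hbπ]
    have hg : (φ₀ ≫ b) ≫ p = W₀.ι ≫ ι ≫ lineπ V ≫ p := by
      rw [Category.assoc, wb, reassoc_of% hφ₀, hφπ]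
    have hg' : ((W₀.ι ≫ ι) ≫ lineπ V) ≫ p = W₀.ι ≫ ι ≫ lineπ V ≫ p := by simp only [Category.assoc]
    have hg'' : (W₀.ι ≫ ι) ≫ lineπ V ≫ p = W₀.ι ≫ ι ≫ lineπ V ≫ p := by simp only [Category.assoc]
    have hW : pullCoord (W₀.ι ≫ ι) hg'' (famL c) = pullCoord (W₀.ι ≫ ι) hg'' (famR σ) :=
      (pullCoord_congr_iff _ hg'' _ _).2 ((hι _ _).1 ⟨W₀.ι, rfl⟩)
    rw [famL, famR, pullCoord_smulCoord, pullCoord_smulCoord, map_sub, map_one, pullCoord_comp, pullCoord_comp] at hW
    refine (hc _ (pullCoord (φ₀ ≫ b) hg c)).unique ⟨hg, rfl⟩ ⟨hg', ?_⟩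
    have h1 := congrArg (smulCoord (φ₀.appTop u')) hW
    rw [smulCoord_smulCoord, smulCoord_smulCoord, ← hT0, mul_comm (φ₀.appTop u') (φ₀.appTop T'), ← map_mul, huT, map_one,
      one_smulCoord] at h1
    refine h1.trans ?_
    have hg3 : φ₀ ≫ jD ≫ lineπ X = W₀.ι ≫ ι ≫ lineπ V ≫ p := by rw [reassoc_of% hφ₀, hφπ]
    rw [← pullCoord_comp b wb φ₀ hg3 c, eb, pullCoord_smulCoord, map_mul, map_sub, map_one, pullCoord_comp]
    simp only [hg3, hg'']
  intro z hz
  have hzW : z ∈ W₀ := by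
    show φ z ∈ D
    rw [Scheme.mem_basicOpen (X := Line X) (lineT X) (φ z) trivial]
    refine isUnit_of_map_unit (φ.stalkMap z).hom _ ?_
    have h2 := hz.map (ι.stalkMap z).hom
    erw [Scheme.Hom.germ_stalkMap_apply φ ⊤ z trivial]
    erw [Scheme.Hom.germ_stalkMap_apply ι ⊤ z trivial] at h2
    show IsUnit (W.presheaf.germ ⊤ z trivial (φ.appTop (lineT X)))
    rw [hφT]
    exact h2
  obtain ⟨l₀, hl₀⟩ : ∃ l₀ : (D : Scheme.{u}) ⟶ (W₀ : Scheme.{u}), l₀ ≫ W₀.ι = l := by
    refine ⟨IsOpenImmersion.lift W₀.ι l ?_, IsOpenImmersion.lift_fac _ _ _⟩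
    rintro _ ⟨x, rfl⟩
    rw [Scheme.Opens.range_ι]
    show φ (l x) ∈ D
    rw [← Scheme.Hom.comp_apply, hlφ]
    exact x.2
  haveI : IsIso φ₀ := ⟨l₀, by rw [← cancel_mono W₀.ι, Category.assoc, hl₀, hinv, Category.id_comp],
    by rw [← cancel_mono jD, Category.assoc, hφ₀, reassoc_of% hl₀, hlφ, Category.id_comp]⟩
  haveI : IsOpenImmersion (W₀.ι ≫ φ) := by rw [← hφ₀]; infer_instance
  have hd : (fun w : (W₀ : Scheme.{u}) => δY (ι (W₀.ι w))) = fun w => δB ((W₀.ι ≫ φ) w) := by
    have h1 := CycLib.deltaCompat_comp hδY (deltaCompat_preimmersion (W₀.ι ≫ ι) δY)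
    have h2 := CycLib.deltaCompat_comp hδB (deltaCompat_preimmersion (W₀.ι ≫ φ) δB)
    have e : (W₀.ι ≫ φ) ≫ lineπ X = (W₀.ι ≫ ι) ≫ lineπ V ≫ p := by rw [Category.assoc, hφπ, Category.assoc]
    rw [e] at h2
    exact CycLib.deltaCompat_unique h1 h2
  refine ⟨congrFun hd ⟨z, hzW⟩, ?_⟩
  have h1 : IsIso ((W₀.ι ≫ φ).stalkMap ⟨z, hzW⟩) := inferInstance
  rw [Scheme.Hom.stalkMap_comp] at h1
  haveI := h1
  have h4 : IsIso (φ.stalkMap (W₀.ι ⟨z, hzW⟩)) :=
    IsIso.of_isIso_comp_right (φ.stalkMap (W₀.ι ⟨z, hzW⟩)) (W₀.ι.stalkMap ⟨z, hzW⟩)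
  exact (ConcreteCategory.isIso_iff_bijective _).1 h4

end Groth.Agent.ZeroLocusLib
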