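import Groth.Agent.ZeroLocusLib.Locus
import Groth.Agent.VBundLib.TopMain
import Groth.Agent.VBundLib.AffMain
import Groth.Agent.CycLib.SubFun
import Groth.Agent.CycLib.P1Rat
import Groth.Agent.DegDevLib.Det

/-! # The two ends of a family over the affine line -/

set_option autoImplicit false
set_option backward.isDefEq.respectTransparency false
set_option backward.defeqAttrib.useBackward true
set_option linter.style.haveILetI false

universe u

open CategoryTheory CategoryTheory.Limits AlgebraicGeometry TopologicalSpace Opposite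
open Groth.Agent.PullbackMod Groth.Agent.VBundLib Groth.Agent.CycLib

noncomputable section

namespace Groth.Agent.ZeroLocusLib

open CycLib.AffBundle (Idx)

variable {V : Scheme.{u}}

/-- The affine line over a scheme. -/
abbrev Line (V : Scheme.{u}) : Scheme.{u} := 𝔸(Idx.{u} 1; V)

/-- Its projection. -/
abbrev lineπ (V : Scheme.{u}) : Line V ⟶ V := 𝔸(Idx.{u} 1; V) ↘ V

/-- Its coordinate. -/
abbrev lineT (V : Scheme.{u}) : Γ(Line V, ⊤) := AffineSpace.coord V (ULift.up (0 : Fin 1))

/-- The section with a given value. -/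
abbrev lineSect (a : Γ(V, ⊤)) : V ⟶ Line V := AffineSpace.homOfVector (𝟙 V) (fun _ => a)

/-- The equation of a section. -/
abbrev lineEq (a : Γ(V, ⊤)) : Γ(Line V, ⊤) := lineT V - (lineπ V).appTop a

theorem lineSect_π (a : Γ(V, ⊤)) : lineSect a ≫ lineπ V = 𝟙 V := AffineSpace.homOfVector_over _ _

theorem lineSect_T (a : Γ(V, ⊤)) : (lineSect a).appTop (lineT V) = a :=
  AffineSpace.homOfVector_appTop_coord _ _ _

instance isClosedImmersion_lineSect (a : Γ(V, ⊤)) : IsClosedImmersion (lineSect a) := by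
  haveI : IsClosedImmersion (lineSect a ≫ lineπ V) := by rw [lineSect_π]; infer_instance
  haveI : IsAffineHom (lineπ V) := (isAffineHom_of_locTriv (locTriv_affineSpace V 1)).1
  exact IsClosedImmersion.of_comp (lineSect a) (lineπ V)

theorem factors_lineSect (a : Γ(V, ⊤)) (S : Scheme.{u}) (k : S ⟶ Line V) :
    (∃ l, l ≫ lineSect a = k) ↔ pullCoord k rfl (freeCoord (lineπ V) (AffineSpace.coord V)) =
      pullCoord k rfl (freeCoord (lineπ V) (fun _ : Idx.{u} 1 => (lineπ V).appTop a)) := by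
  have hval : ∀ (v : Idx.{u} 1 → Γ(Line V, ⊤)) (i : Fin 1),
      unitVal (Sigma.ι (fun _ : Fin 1 => Coh.structureModule V) i ≫ pullCoord k rfl (freeCoord (lineπ V) v)) =
        k.appTop (v ⟨i⟩) := fun v i => by
    rw [← pullCoord_precomp, unitVal_pullCoord, unitVal_freeCoord]
  have hπ : k.appTop ((lineπ V).appTop a) = (k ≫ lineπ V).appTop a := by
    rw [Scheme.Hom.comp_appTop]; rfl
  constructor
  · rintro ⟨l, rfl⟩
    refine freeCoord_ext fun i => ?_
    rw [hval, hval, hπ, Category.assoc, lineSect_π, Category.comp_id,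
      show (⟨i⟩ : Idx.{u} 1) = ⟨0⟩ from congrArg ULift.up (Subsingleton.elim _ _), Scheme.Hom.comp_appTop]
    exact congrArg l.appTop (lineSect_T a)
  · intro h
    refine ⟨k ≫ lineπ V, AffineSpace.hom_ext (by rw [Category.assoc, lineSect_π, Category.comp_id]) fun i => ?_⟩
    obtain ⟨i⟩ := i
    have h1 := congrArg (fun d => unitVal (Sigma.ι (fun _ : Fin 1 => Coh.structureModule V) i ≫ d)) h
    simp only [hval] at h1
    rw [h1, hπ, show (⟨i⟩ : Idx.{u} 1) = ⟨0⟩ from congrArg ULift.up (Subsingleton.elim _ _), Scheme.Hom.comp_appTop]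
    exact congrArg (k ≫ lineπ V).appTop (lineSect_T a)

/-- The standard generator, evaluated. -/
theorem exists_gen (a : Γ(V, ⊤)) (y : Line V) :
    ∃ e : Fin 1 → (FlatMod.freeMod V 1).presheaf.stalk (lineπ V y),
      Submodule.span (V.presheaf.stalk (lineπ V y)) (Set.range e) = ⊤ ∧
      ∀ i, sval (freeCoord (lineπ V) (AffineSpace.coord V)) y (e i) -
        sval (freeCoord (lineπ V) (fun _ : Idx.{u} 1 => (lineπ V).appTop a)) y (e i) =
          (Line V).presheaf.germ ⊤ y trivial (lineEq a) := by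
  refine ⟨DegDevLib.stdGerm 1 (lineπ V y), ?_, fun i => ?_⟩
  · refine Submodule.eq_top_iff'.2 fun z => ?_
    obtain ⟨c, rfl⟩ := (DegDevLib.stdGerm_bijective 1 (lineπ V y)).2 z
    rw [Fintype.linearCombination_apply]
    exact Submodule.sum_mem _ fun i _ => Submodule.smul_mem _ _ (Submodule.subset_span ⟨i, rfl⟩)
  · have hg : DegDevLib.stdGerm 1 (lineπ V y) i = (FlatMod.freeMod V 1).presheaf.germ ⊤ (lineπ V y) trivial
        ((Sigma.ι (fun _ : Fin 1 => Coh.structureModule V) i).app ⊤ (1 : Γ(V, ⊤))) := stalkLin_germ _ _ _ _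
    have hv : ∀ v : Idx.{u} 1 → Γ(Line V, ⊤), sval (freeCoord (lineπ V) v) y (DegDevLib.stdGerm 1 (lineπ V y) i) =
        (Line V).presheaf.germ ⊤ y trivial (v ⟨i⟩) := fun v => by
      rw [hg, sval_germ]
      exact congrArg ((Line V).presheaf.germ ⊤ y trivial).hom (unitVal_freeCoord (lineπ V) v i)
    rw [hv, hv, show (⟨i⟩ : Idx.{u} 1) = ⟨0⟩ from congrArg ULift.up (Subsingleton.elim _ _), lineEq, map_sub]

theorem fibre_zero_iff (a : Γ(V, ⊤)) (y : Line V) :
    (Submodule.Quotient.mk ((Coh.structureModule (Line V)).presheaf.germ ⊤ y trivial (lineEq a)) :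
      Cyc.secFibre (Coh.structureModule (Line V)) y) = 0 ↔
      (Line V).presheaf.germ ⊤ y trivial (lineEq a) ∈ IsLocalRing.maximalIdeal _ := by
  rw [← oneE_germ y (U := ⊤) trivial (lineEq a)]
  refine (smul_mkF_eq_zero_iff (CycLib.Dual.oneEquiv y).bijective _).trans ?_
  exact IsLocalRing.residue_eq_zero_iff _

theorem isZeroSchemeOf_lineSect (a : Γ(V, ⊤)) :
    Cyc.IsZeroSchemeOf (lineSect a) (Coh.structureModule (Line V)) (lineEq a) := by
  have hG := DegDevLib.isFinLocFreeOfRank_freeMod (X := V) 1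
  have hker : ∀ d : V, RingHom.ker ((lineSect a).stalkMap d).hom =
      Ideal.span {(Line V).presheaf.germ ⊤ (lineSect a d) trivial (lineEq a)} := fun d => by
    obtain ⟨e, he, hv⟩ := exists_gen a (lineSect a d)
    rw [ker_stalkMap (lineSect a) _ _ (factors_lineSect a) hG d he]
    simp only [hv, Set.range_const]
  refine ⟨Set.ext fun y => ?_, fun d => ⟨oneE (Line V) _ 1, _, ?_, ?_, hker d⟩⟩
  · refine Iff.trans ?_ (fibre_zero_iff a y).symm
    constructor
    · rintro ⟨d, rfl⟩
      intro hu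
      have h0 : (lineSect a).stalkMap d ((Line V).presheaf.germ ⊤ (lineSect a d) trivial (lineEq a)) = 0 :=
        RingHom.mem_ker.1 (hker d ▸ Ideal.mem_span_singleton_self _)
      exact not_isUnit_zero (h0 ▸ hu.map ((lineSect a).stalkMap d).hom)
    · intro hy
      obtain ⟨e, he, hv⟩ := exists_gen a y
      obtain ⟨d, hd, -⟩ := exists_point (lineSect a) _ _ (factors_lineSect a) hG he (fun i => by rw [hv]; exact hy)
      exact ⟨d, hd⟩
  · refine Submodule.eq_top_iff'.2 fun z => Submodule.mem_span_singleton.2 ?_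
    obtain ⟨r, rfl⟩ := (oneE (Line V) _).surjective z
    exact ⟨r, by rw [← map_smul, smul_eq_mul, mul_one]⟩
  · rw [← map_smul, smul_eq_mul, mul_one]
    exact (oneE_germ _ (U := ⊤) trivial _).symm

theorem lineEq_nonZeroDivisor (a : Γ(V, ⊤)) (y : Line V) :
    (Line V).presheaf.germ ⊤ y trivial (lineEq a) ∈ nonZeroDivisors _ := by
  refine germ_mem_nonZeroDivisors (W := ⊤) (locTriv_affineSpace V 1) (lineEq a) (fun x _ => ?_) y trivial
  refine ⟨lineSect (a + 1) x, by rw [← Scheme.Hom.comp_apply, lineSect_π]; rfl, ?_⟩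
  rw [Scheme.mem_basicOpen (X := Line V) (lineEq a) _ trivial]
  refine isUnit_of_map_unit ((lineSect (a + 1)).stalkMap x).hom _ ?_
  have h1 : (lineSect (a + 1)).stalkMap x ((Line V).presheaf.germ ⊤ (lineSect (a + 1) x) trivial (lineEq a)) =
      V.presheaf.germ ⊤ x trivial ((lineSect (a + 1)).appTop (lineEq a)) :=
    Scheme.Hom.germ_stalkMap_apply _ ⊤ x trivial _
  rw [h1, lineEq, map_sub, lineSect_T, ← CommRingCat.comp_apply, ← Scheme.Hom.comp_appTop, lineSect_π,
    Scheme.Hom.id_appTop]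
  simp

theorem hasRelDim_id (V : Scheme.{u}) : Cyc.HasRelDim (𝟙 V) 0 := by
  intro y T hT
  haveI : Subsingleton ↥((𝟙 V : V ⟶ V).fiber y) := ⟨fun z w => ((𝟙 V : V ⟶ V).fiberι y).isEmbedding.injective (by
    have h1 : (𝟙 V : V ⟶ V).fiberι y z ∈ Set.range ((𝟙 V : V ⟶ V).fiberι y) := ⟨z, rfl⟩
    have h2 : (𝟙 V : V ⟶ V).fiberι y w ∈ Set.range ((𝟙 V : V ⟶ V).fiberι y) := ⟨w, rfl⟩
    rw [Scheme.Hom.range_fiberι] at h1 h2
    exact (show (𝟙 V : V ⟶ V).fiberι y z = y from h1).trans (show (𝟙 V : V ⟶ V).fiberι y w = y from h2).symm)⟩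
  have hne : T.Nonempty := hT.1.nonempty
  haveI : Nonempty T := hne.to_subtype
  haveI : Subsingleton (IrreducibleCloseds T) := ⟨fun A B => IrreducibleCloseds.ext (by
    rw [A.isIrreducible.nonempty.eq_univ, B.isIrreducible.nonempty.eq_univ])⟩
  haveI : Nonempty (IrreducibleCloseds T) :=
    ⟨⟨Set.univ, ⟨Set.univ_nonempty, Set.subsingleton_of_subsingleton.isPreirreducible⟩, isClosed_univ⟩⟩
  show Order.krullDim (IrreducibleCloseds T) = ((0 : ℕ) : WithBot ℕ∞)
  rw [Order.krullDim_eq_zero]
  rfl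

section ends

variable {δV : V → ℤ} {n : ℤ} {W : Scheme.{u}} (ι : W ⟶ Line V) [IsClosedImmersion ι]

/-- The two ends of a family over the line. -/
theorem ratEquiv_ends (hV : Cyc.IsSetup V δV) {δY : Line V → ℤ} (hδY : Cyc.DeltaCompat (lineπ V) δY δV)
    (hW : ∀ z : W, δY (ι z) ≤ n + 1) (a b : Γ(V, ⊤))
    (hend : ∀ (c : Γ(V, ⊤)), c = a ∨ c = b → ∀ z : W, ι z ∈ Set.range (lineSect c) → δY (ι z) ≤ n)
    (hnzd : ∀ (c : Γ(V, ⊤)), c = a ∨ c = b → ∀ z : W, ι z ∈ Set.range (lineSect c) → δY (ι z) = n →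
      ι.stalkMap z ((Line V).presheaf.germ ⊤ (ι z) trivial (lineEq c)) ∈ nonZeroDivisors _)
    (A B : AlgebraicCycle V ℤ) (hA : ⇑A = Cyc.subschemeFun δV n (pullback.snd ι (lineSect a)))
    (hB : ⇑B = Cyc.subschemeFun δV n (pullback.snd ι (lineSect b))) : Cyc.RatEquiv δV n A B := by
  classical
  haveI := hV.1
  obtain ⟨_, _, _, _⟩ := isAffineHom_of_locTriv (locTriv_affineSpace V 1)
  have hY := isSetup_of_lft (lineπ V) hV hδY
  haveI := hY.1
  have hd : ∀ c : Γ(V, ⊤), (fun v => δY (lineSect c v)) = δV := fun c => by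
    have h1 := CycLib.deltaCompat_comp hδY (VBundLib.deltaCompat_preimmersion (lineSect c) δY)
    rw [lineSect_π] at h1
    exact CycLib.deltaCompat_unique h1 (VBundLib.deltaCompat_preimmersion (𝟙 V) δV)
  have hO : PicF.IsInvertible (Coh.structureModule (Line V)) := ParaFLib.isInvertible_structureModule
  have hF : Coh.IsCoh ((Coh.push ι).obj (Coh.structureModule W)) :=
    DevLib.isCoh_pushforward_closed ι (haveI := isLocallyNoetherian_closed ι; DevLib.isCoh_structureModule W)
  haveI := hF.1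
  have hsupp : ∀ p : Line V, Nontrivial (((Coh.push ι).obj (Coh.structureModule W)).presheaf.stalk p) → δY p ≤ n + 1 :=
    fun p hp => by
      by_cases hr : p ∈ Set.range ι
      · obtain ⟨z, rfl⟩ := hr; exact hW z
      · haveI := DCohLib.subsingleton_stalk_pushforward ι (Coh.structureModule W) p hr
        exact (not_subsingleton _ ‹_›).elim
  let C : AlgebraicCycle (Line V) ℤ := P1Rat.sheafCycle (δ := δY) (k := n + 1) hF
  have hC : C ∈ Cyc.Zk (Line V) δY (n + 1) := fun x hx => if_neg hx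
  obtain ⟨β, β', hβ, hβ', hrel⟩ := S1944.result (Line V) V δY δV hY hV (lineπ V) 1
    (hasRelDim_of_locTriv (locTriv_affineSpace V 1)) hδY (exists_hloc (locTriv_affineSpace V 1)) n C
    (by exact_mod_cast hC)
  obtain ⟨w, hw⟩ := CycLib.exists_secs hO
  have key : ∀ c : Γ(V, ⊤), c = a ∨ c = b → ∀ A : AlgebraicCycle V ℤ,
      ⇑A = Cyc.subschemeFun δV n (pullback.snd ι (lineSect c)) → Cyc.RatEquiv δV n A β := by
    intro c hc A hA
    let GH : AlgebraicCycle (Line V) ℤ →+ AlgebraicCycle V ℤ := gysinHom hY.2.2 hO (lineSect c)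
      (Cyc.gysinChoice (Coh.structureModule (Line V)) (lineEq c) w)
    have hzero := isZeroSchemeOf_lineSect c
    have h1 : Cyc.RatEquiv δV n (GH C) (GH β') := by
      have h0 := gysin_ratEquivZero hY hO hzero hw (k := n) (α := C - β') (by exact_mod_cast hrel) (GH (C - β'))
        (fun _ => rfl)
      rw [map_sub, hd c] at h0
      exact h0
    have hreg : ∀ x : Line V, Function.Injective (fun r : (Line V).presheaf.stalk x =>
        r • (Coh.structureModule (Line V)).presheaf.germ ⊤ x trivial (lineEq c)) := fun x r r' h => by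
      simp only [← oneE_germ x (U := ⊤) trivial (lineEq c), ← map_smul] at h
      have h2 := (oneE (Line V) x).injective h
      simp only [smul_eq_mul] at h2
      exact mul_cancel_right_mem_nonZeroDivisors (lineEq_nonZeroDivisor c x) |>.1 h2
    haveI : Flat (lineSect c ≫ lineπ V) := by rw [lineSect_π]; infer_instance
    have h2 : Cyc.RatEquiv δV n (GH β') β := by
      have h3 := S1945.result (Line V) V V δY δV hY hV (lineπ V) 0 (hasRelDim_of_locTriv (locTriv_affineSpace V 1))
        hδY (Coh.structureModule (Line V)) hO (lineEq c) hreg (lineSect c) hzero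
        (by rw [lineSect_π]; exact hasRelDim_id V) (n - 1) β (by rwa [sub_add_cancel]) w hw (GH β') β
        (fun d => by
          show Cyc.c1CapFun δY _ ⇑β' _ _ = _
          rw [hβ']; norm_num)
        (by rw [lineSect_π, hd c, show ((0 : ℕ) : ℤ) = 0 from rfl, VBundLib.pullFun_id hV.2.2])
      rw [hd c, show n - 1 + ((0 : ℕ) : ℤ) + 1 = n by push_cast; ring] at h3
      exact h3
    have hbound : ∀ z : ↥(pullback ι (lineSect c)), δV (pullback.snd ι (lineSect c) z) ≤ n := fun z => by
      have hcd : ι (pullback.fst ι (lineSect c) z) = lineSect c (pullback.snd ι (lineSect c) z) :=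
        congr($(pullback.condition (f := ι) (g := lineSect c)) z)
      rw [← congrFun (hd c) (pullback.snd ι (lineSect c) z), ← hcd]
      exact hend c hc _ ⟨_, hcd.symm⟩
    suffices h : A = GH C by rw [h]; exact ratEquiv_trans h1 h2
    refine DFunLike.coe_injective ?_
    rw [hA, SubFun.subschemeFun_snd ι (lineSect c) hV hbound]
    funext d
    show _ = Cyc.c1CapFun δY (Coh.structureModule (Line V))
      (Cyc.sheafFun δY (n + 1) ((Coh.push ι).obj (Coh.structureModule W)))
      (Cyc.gysinChoice (Coh.structureModule (Line V)) (lineEq c) w) (lineSect c d)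
    have hdd := congrFun (hd c) d
    by_cases hdn : δV d = n
    · rw [Cyc.sheafFun, if_pos hdn]
      refine (GysinSheaf.fibre_sum hY hO hzero hF hsupp (fun x hx t f _ hf =>
        GysinSheaf.regular_of_assPoints (fun y hyx hy hz => ?_) t f hf) (hdd.trans hdn) w).symm
      obtain ⟨z, rfl, hz'⟩ := P1Closed.isAssPoint_push ι hy
      have hyr : ι z ∈ Set.range (lineSect c) := by rw [hzero.1]; exact hz
      have hky : n ≤ δY (ι z) := by
        by_cases he : ι z = x
        · rw [he]; exact hx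
        · exact hx.trans (hY.2.2 _ x hyx he).1.le
      have hzd := hnzd c hc z hyr (le_antisymm (hend c hc z hyr) hky)
      have hm : ι.stalkMap z ((Line V).presheaf.germ ⊤ (ι z) trivial (lineEq c)) ∈
          IsLocalRing.maximalIdeal (W.presheaf.stalk z) := fun hu =>
        ((fibre_zero_iff c (ι z)).1 hz) (isUnit_of_map_unit (ι.stalkMap z).hom _ hu)
      obtain ⟨hP, u, hu⟩ := hz'
      have h7 := hm
      rw [hu] at h7
      obtain ⟨N, hN⟩ := h7
      rw [Submodule.mem_colon_singleton, Submodule.mem_bot, smul_eq_mul] at hN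
      have hu0 : u = 0 := (mem_nonZeroDivisors_iff.1 (pow_mem hzd N)).2 u (by rw [mul_comm]; exact hN)
      subst hu0
      refine hP.ne_top (hu.trans (Ideal.radical_eq_top.2 ?_))
      exact Ideal.eq_top_iff_one _ |>.2 (Submodule.mem_colon_singleton.2 (by simp))
    · rw [Cyc.sheafFun, if_neg hdn, c1CapFun_eq_zero_of_ne
        (a := Cyc.sheafFun δY (n + 1) ((Coh.push ι).obj (Coh.structureModule W))) (fun ξ hξ => if_neg hξ) _
        (by rw [hdd]; exact hdn)]
  exact ratEquiv_trans (key a (Or.inl rfl) A hA) (ratEquiv_symm hV.2.2 (key b (Or.inr rfl) B hB))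

end ends

end Groth.Agent.ZeroLocusLib
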