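import Groth.Agent.VBundLib.Gysin
import Groth.Agent.VBundLib.Scale
import Groth.Agent.DegDevLib.Frame
import Groth.Agent.DeformLib.Zero

/-! # The locus where two systems of coordinates agree -/

set_option autoImplicit false
set_option backward.isDefEq.respectTransparency false
set_option backward.defeqAttrib.useBackward true
set_option linter.style.haveILetI false

universe u

open CategoryTheory CategoryTheory.Limits AlgebraicGeometry TopologicalSpace Opposite
open Groth.Agent.PullbackMod Groth.Agent.VBundLib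

noncomputable section

namespace Groth.Agent.ZeroLocusLib

variable {X : Scheme.{u}} {G : X.Modules} {T : Scheme.{u}} {g : T ⟶ X}

/-- The structure sheaf at a point. -/
abbrev oneE (T : Scheme.{u}) (t : T) :
    T.presheaf.stalk t ≃ₗ[T.presheaf.stalk t] (Coh.structureModule T).presheaf.stalk t :=
  CycLib.Dual.oneEquiv t

theorem oneE_germ (t : T) {U : T.Opens} (ht : t ∈ U) (a : Γ(T, U)) :
    oneE T t (T.presheaf.germ U t ht a) = (Coh.structureModule T).presheaf.germ U t ht a := by
  show T.presheaf.germ U t ht a • LocFreeHomLib.one' t = _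
  rw [LocFreeHomLib.one', ← TopCat.Presheaf.germ_res_apply (Coh.structureModule T).presheaf
    (homOfLE (le_top : U ≤ ⊤)) t ht, ← ParaFLib.germ_smul']
  congr 1
  show a * (T.presheaf.map _ (1 : Γ(T, ⊤))) = a
  rw [map_one, mul_one]

/-- The value of coordinates on a germ. -/
def sval (d : Coord g G) (t : T) : G.presheaf.stalk (g t) →+ T.presheaf.stalk t :=
  ((oneE T t).symm.toAddMonoidHom.comp (DCohLib.pushStalk g (Coh.structureModule T) t)).comp
    (stalkLin d (g t)).toAddMonoidHom

theorem sval_germ (d : Coord g G) (t : T) {U : X.Opens} (ht : g t ∈ U) (e : Γ(G, U)) :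
    sval d t (G.presheaf.germ U (g t) ht e) = T.presheaf.germ (g ⁻¹ᵁ U) t ht (cval d U e) := by
  show (oneE T t).symm (DCohLib.pushStalk g _ t (stalkLin d (g t) _)) = _
  rw [LinearEquiv.symm_apply_eq, oneE_germ, stalkLin_germ, DCohLib.pushStalk_germ]
  rfl

theorem sval_smul (d : Coord g G) (t : T) (a : X.presheaf.stalk (g t)) (e : G.presheaf.stalk (g t)) :
    sval d t (a • e) = g.stalkMap t a * sval d t e := by
  show (oneE T t).symm (DCohLib.pushStalk g _ t (stalkLin d (g t) (a • e))) = _
  rw [map_smul, DCohLib.pushStalk_smul, map_smul]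
  rfl

theorem sval_pullCoord {V : Scheme.{u}} {p : V ⟶ X} (k : T ⟶ V) (c : Coord p G) (t : T)
    (e : G.presheaf.stalk (p (k t))) :
    sval (pullCoord k rfl c) t e = k.stalkMap t (sval c (k t) e) := by
  obtain ⟨U, hx, e, rfl⟩ := TopCat.Presheaf.exists_germ_eq G.presheaf e
  refine (sval_germ (g := k ≫ p) (pullCoord k rfl c) t hx e).trans ?_
  rw [sval_germ, cval_pullCoord, Scheme.Hom.germ_stalkMap_apply]
  show _ = T.presheaf.germ (k ⁻¹ᵁ (p ⁻¹ᵁ U)) t hx (k.app (p ⁻¹ᵁ U) (cval c U e))
  rw [Scheme.Hom.app_eq_appLE]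
  rfl

theorem sval_smulCoord (m : Γ(T, ⊤)) (d : Coord g G) (t : T) (e : G.presheaf.stalk (g t)) :
    sval (smulCoord m d) t e = T.presheaf.germ ⊤ t trivial m * sval d t e := by
  obtain ⟨U, hx, e, rfl⟩ := TopCat.Presheaf.exists_germ_eq G.presheaf e
  rw [sval_germ, sval_germ, cval_smulCoord, map_mul, TopCat.Presheaf.germ_res_apply]

theorem coord_ext_sval {d d' : Coord g G} (h : ∀ t e, sval d t e = sval d' t e) : d = d' := by
  refine coord_ext fun U _ e => TopCat.Presheaf.section_ext T.sheaf _ _ _ fun t ht => ?_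
  exact ((sval_germ d t ht e).symm.trans (h t _)).trans (sval_germ d' t ht e)

/-- If a spanning family has the same values at the closed point of a local scheme, the coordinates agree. -/
theorem coord_eq_of_local {r : ℕ} (hG : FlatMod.IsFinLocFreeOfRank r G) {d d' : Coord g G} (c : T)
    (hc : ∀ t : T, t ⤳ c) (h : ∀ e, sval d c e = sval d' c e) : d = d' := by
  obtain ⟨V, hV, hgc⟩ := CycLib.exists_affine (g c)
  obtain ⟨U, f, hU, -, hf⟩ := DegDevLib.exists_frame hG (Set.finite_singleton (g c)) hV (by simpa using hgc)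
  have hcU : g c ∈ U := hU rfl
  refine coord_ext_sval fun t e => ?_
  have htU : g t ∈ U := ((hc t).map g.continuous).mem_open U.2 hcU
  obtain ⟨a, rfl⟩ := (hf (g t) htU).2 e
  rw [Fintype.linearCombination_apply, map_sum, map_sum]
  refine Finset.sum_congr rfl fun i _ => ?_
  rw [sval_smul, sval_smul, sval_germ, sval_germ]
  congr 1
  have h1 := h (G.presheaf.germ U (g c) hcU (f i))
  rw [sval_germ, sval_germ] at h1
  have h2 := congrArg (T.presheaf.stalkSpecializes (hc t)).hom h1
  rwa [← CommRingCat.comp_apply, ← CommRingCat.comp_apply, TopCat.Presheaf.germ_stalkSpecializes] at h2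

theorem stalk_hom_eq_of_span {r : ℕ} {x : T} {e : Fin r → G.presheaf.stalk (g x)}
    (he : Submodule.span (X.presheaf.stalk (g x)) (Set.range e) = ⊤) {d d' : Coord g G}
    {A : Type u} [CommRing A] (q : T.presheaf.stalk x →+* A)
    (h : ∀ i, q (sval d x (e i)) = q (sval d' x (e i))) (z : G.presheaf.stalk (g x)) :
    q (sval d x z) = q (sval d' x z) := by
  have hz : z ∈ Submodule.span (X.presheaf.stalk (g x)) (Set.range e) := he ▸ trivial
  induction hz using Submodule.span_induction with
  | mem z hz => obtain ⟨i, rfl⟩ := hz; exact h i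
  | zero => simp
  | add a b _ _ ha hb => simp [ha, hb]
  | smul a b _ hb => rw [sval_smul, sval_smul, map_mul, map_mul, hb]

variable {W : Scheme.{u}} (ι : W ⟶ T) [IsClosedImmersion ι] (d d' : Coord g G)
  (hι : ∀ (S : Scheme.{u}) (k : S ⟶ T), (∃ l, l ≫ ι = k) ↔ pullCoord k rfl d = pullCoord k rfl d')
  {r : ℕ} (hG : FlatMod.IsFinLocFreeOfRank r G)

include hι hG in
/-- A point where the differences of the values lie in the maximal ideal lies on the locus, with the evident ideal. -/
theorem exists_point {η : T} {e : Fin r → G.presheaf.stalk (g η)}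
    (he : Submodule.span (X.presheaf.stalk (g η)) (Set.range e) = ⊤)
    (hm : ∀ i, sval d η (e i) - sval d' η (e i) ∈ IsLocalRing.maximalIdeal (T.presheaf.stalk η)) :
    ∃ y : W, ∃ h : ι y = η, ∀ a : T.presheaf.stalk η,
      ι.stalkMap y (T.presheaf.stalkSpecializes (specializes_of_eq h) a) = 0 →
        a ∈ Ideal.span (Set.range fun i => sval d η (e i) - sval d' η (e i)) := by
  set I := Ideal.span (Set.range fun i => sval d η (e i) - sval d' η (e i)) with hI
  haveI : Nontrivial (T.presheaf.stalk η ⧸ I) := Ideal.Quotient.nontrivial_iff.2 fun h =>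
    (IsLocalRing.maximalIdeal.isMaximal _).ne_top (eq_top_iff.2 (h.symm.le.trans
      (Ideal.span_le.2 (Set.range_subset_iff.2 hm))))
  haveI : IsLocalRing (T.presheaf.stalk η ⧸ I) :=
    IsLocalRing.of_surjective' (Ideal.Quotient.mk I) Ideal.Quotient.mk_surjective
  let q : T.presheaf.stalk η ⟶ CommRingCat.of (T.presheaf.stalk η ⧸ I) := CommRingCat.ofHom (Ideal.Quotient.mk I)
  haveI : IsLocalHom q.hom := Function.Surjective.isLocalHom (Ideal.Quotient.mk I) Ideal.Quotient.mk_surjective
  let h : Spec (CommRingCat.of (T.presheaf.stalk η ⧸ I)) ⟶ T := Spec.map q ≫ T.fromSpecStalk η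
  let c := IsLocalRing.closedPoint (T.presheaf.stalk η ⧸ I)
  have hcη : h c = η :=
    (congrArg (T.fromSpecStalk η) (IsLocalRing.comap_closedPoint q.hom)).trans Scheme.fromSpecStalk_closedPoint
  have key : ∀ (h' : Spec (CommRingCat.of (T.presheaf.stalk η ⧸ I)) ⟶ T) (_ : h' = h) (hc : h' c ⤳ η)
      (a : T.presheaf.stalk η), Scheme.stalkClosedPointTo h' (T.presheaf.stalkSpecializes hc a) = q a := by
    rintro _ rfl hc a
    obtain ⟨U, hηU, σ, rfl⟩ := TopCat.Presheaf.exists_germ_eq T.presheaf a
    rw [TopCat.Presheaf.germ_stalkSpecializes_apply]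
    exact ConcreteCategory.congr_hom (Scheme.germ_stalkClosedPointTo_Spec_fromSpecStalk q U (hc.mem_open U.2 hηU)) σ
  have h0 : pullCoord h rfl d = pullCoord h rfl d' := by
    refine coord_eq_of_local hG c (fun t => IsLocalRing.specializes_closedPoint t) ?_
    show ∀ z : G.presheaf.stalk (g (h c)), _
    rw [sval_pullCoord_forall]
    intro z
    refine (stalkClosedPointIso _).commRingCatIsoToRingEquiv.injective ?_
    have hs : ∀ (x : T) (hx : x = η) (z : G.presheaf.stalk (g x)) (hh : x ⤳ η),
        ∀ f : T.presheaf.stalk x →+* _, (∀ a, f (T.presheaf.stalkSpecializes hh a) = q a) →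
          f (sval d x z) = f (sval d' x z) := by
      rintro x rfl z hh f hf
      have hf' : ∀ a, f a = q a := fun a => by
        have := hf a
        rwa [TopCat.Presheaf.stalkSpecializes_refl] at this
      refine stalk_hom_eq_of_span he f (fun i => ?_) z
      rw [hf', hf', ← sub_eq_zero, ← map_sub]
      exact Ideal.Quotient.eq_zero_iff_mem.2 (Ideal.subset_span ⟨i, rfl⟩)
    exact hs (h c) hcη z (specializes_of_eq hcη) (Scheme.stalkClosedPointTo h).hom
      (key h rfl (specializes_of_eq hcη))
  obtain ⟨k, hk⟩ := (hι _ h).2 h0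
  have hky : ι (k c) = η := by rw [← Scheme.Hom.comp_apply, hk, hcη]
  refine ⟨k c, hky, fun a ha => ?_⟩
  have e := key (k ≫ ι) hk (specializes_of_eq hky) a
  rw [Scheme.stalkClosedPointTo_comp, CommRingCat.comp_apply] at e
  exact Ideal.Quotient.eq_zero_iff_mem.1 ((e.symm.trans (congrArg _ ha)).trans (map_zero _))
where
  sval_pullCoord_forall {S : Scheme.{u}} {h : S ⟶ T} {c : S} :
      (∀ z : G.presheaf.stalk (g (h c)), sval (pullCoord h rfl d) c z = sval (pullCoord h rfl d') c z) ↔
        ∀ z : G.presheaf.stalk (g (h c)), h.stalkMap c (sval d (h c) z) = h.stalkMap c (sval d' (h c) z) :=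
    forall_congr' fun z => by rw [sval_pullCoord, sval_pullCoord]

include hι hG in
/-- The ideal of the locus. -/
theorem ker_stalkMap (y : W) {e : Fin r → G.presheaf.stalk (g (ι y))}
    (he : Submodule.span (X.presheaf.stalk (g (ι y))) (Set.range e) = ⊤) :
    RingHom.ker (ι.stalkMap y).hom = Ideal.span (Set.range fun i => sval d (ι y) (e i) - sval d' (ι y) (e i)) := by
  have h0 : ∀ i, ι.stalkMap y (sval d (ι y) (e i) - sval d' (ι y) (e i)) = 0 := fun i => by
    rw [map_sub, sub_eq_zero, ← sval_pullCoord ι d y, ← sval_pullCoord ι d' y,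
      (hι W ι).1 ⟨𝟙 W, Category.id_comp _⟩]
  refine le_antisymm (fun a ha => ?_) (Ideal.span_le.2 (Set.range_subset_iff.2 h0))
  have hm : ∀ i, sval d (ι y) (e i) - sval d' (ι y) (e i) ∈ IsLocalRing.maximalIdeal (T.presheaf.stalk (ι y)) :=
    fun i hu => by
      have := hu.map (ι.stalkMap y).hom
      rw [show (ι.stalkMap y).hom _ = 0 from h0 i] at this
      exact not_isUnit_zero this
  obtain ⟨y', h', h⟩ := exists_point ι d d' hι hG he hm
  obtain rfl : y' = y := ι.isEmbedding.injective h'
  refine h a ?_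
  rw [show T.presheaf.stalkSpecializes (specializes_of_eq h') a = a from
    ConcreteCategory.congr_hom (TopCat.Presheaf.stalkSpecializes_refl T.presheaf _) a]
  exact ha

end Groth.Agent.ZeroLocusLib
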