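import Groth.Agent.ZeroLocusLib.Eq
import Groth.Agent.StalkHomLib.SectHom
import Groth.Agent.InsepLenLib.Scheme

/-! # Loci of coordinates: existence, comparison, sections -/

set_option autoImplicit false
set_option backward.isDefEq.respectTransparency false
set_option backward.defeqAttrib.useBackward true
set_option linter.style.haveILetI false

universe u

open CategoryTheory CategoryTheory.Limits AlgebraicGeometry TopologicalSpace Opposite
open Groth.Agent.PullbackMod Groth.Agent.VBundLib Groth.Agent.CycLib.Dual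

noncomputable section

namespace Groth.Agent.ZeroLocusLib

variable {X : Scheme.{u}} {G : X.Modules}

/-- Two systems of coordinates on the same scheme agree on a closed subscheme. -/
theorem exists_locus {V : Scheme.{u}} {p : V ⟶ X} {c : Coord p G} (hc : IsVB p c) {r : ℕ}
    (hG : FlatMod.IsFinLocFreeOfRank r G) {T : Scheme.{u}} (g : T ⟶ X) (d d' : Coord g G) :
    ∃ (W : Scheme.{u}) (ι : W ⟶ T) (_ : IsClosedImmersion ι),
      ∀ (S : Scheme.{u}) (k : S ⟶ T), (∃ l, l ≫ ι = k) ↔ pullCoord k rfl d = pullCoord k rfl d' := by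
  obtain ⟨_, _, _, _⟩ := isAffineHom_of_locTriv (hc.locTriv hG)
  obtain ⟨k1, ⟨w1, e1⟩, -⟩ := hc g d
  obtain ⟨k2, ⟨w2, e2⟩, -⟩ := hc g d'
  let m : T ⟶ pullback p p := pullback.lift k1 k2 (w1.trans w2.symm)
  refine ⟨_, pullback.fst m (pullback.diagonal p), MorphismProperty.pullback_fst _ _ inferInstance, fun S k => ?_⟩
  have hwS1 : (k ≫ k1) ≫ p = k ≫ g := by rw [Category.assoc, w1]
  have hwS2 : (k ≫ k2) ≫ p = k ≫ g := by rw [Category.assoc, w2]
  have h1 : pullCoord k rfl d = pullCoord (k ≫ k1) hwS1 c := by rw [← e1, pullCoord_comp k1 w1 k rfl c]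
  have h2 : pullCoord k rfl d' = pullCoord (k ≫ k2) hwS2 c := by rw [← e2, pullCoord_comp k2 w2 k rfl c]
  constructor
  · rintro ⟨l, hl⟩
    have e : k ≫ m = (l ≫ pullback.snd m (pullback.diagonal p)) ≫ pullback.diagonal p := by
      rw [← hl, Category.assoc, Category.assoc, pullback.condition]
    have e1' : k ≫ k1 = l ≫ pullback.snd m (pullback.diagonal p) := by
      simpa [m] using congrArg (· ≫ pullback.fst p p) e
    have e2' : k ≫ k2 = l ≫ pullback.snd m (pullback.diagonal p) := by
      simpa [m] using congrArg (· ≫ pullback.snd p p) e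
    rw [h1, h2]
    simp only [e1'.trans e2'.symm]
  · intro h
    have hk : k ≫ k1 = k ≫ k2 := (hc (k ≫ g) (pullCoord k rfl d)).unique ⟨hwS1, h1.symm⟩ ⟨hwS2, h2.symm.trans h.symm⟩
    exact ⟨pullback.lift k (k ≫ k1) (by apply pullback.hom_ext <;> simp [m, hk]), pullback.lift_fst _ _ _⟩

/-- Closed subschemes with the same morphisms into them have the same cycles. -/
theorem subschemeFun_congr {T W W' : Scheme.{u}} (ι : W ⟶ T) (ι' : W' ⟶ T) [IsClosedImmersion ι] [IsClosedImmersion ι']
    (h : ∀ (S : Scheme.{u}) (k : S ⟶ T), (∃ l, l ≫ ι = k) ↔ ∃ l, l ≫ ι' = k) (δ : T → ℤ) (n : ℤ) :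
    Cyc.subschemeFun δ n ι = Cyc.subschemeFun δ n ι' := by
  obtain ⟨a, ha⟩ := (h W ι).1 ⟨𝟙 W, Category.id_comp _⟩
  obtain ⟨b, hb⟩ := (h W' ι').2 ⟨𝟙 W', Category.id_comp _⟩
  let e : W ≅ W' := ⟨a, b, by rw [← cancel_mono ι, Category.assoc, hb, ha, Category.id_comp],
    by rw [← cancel_mono ι', Category.assoc, ha, hb, Category.id_comp]⟩
  haveI : IsIso e.hom := Iso.isIso_hom e
  funext x
  unfold Cyc.subschemeFun
  split_ifs
  swap
  · rfl
  refine finsum_mem_eq_of_bijOn (fun z => e.hom z) ?_ ?_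
  · refine ⟨fun z hz => ?_, e.hom.isEmbedding.injective.injOn, fun z' hz' => ⟨e.inv z', ?_, ?_⟩⟩
    · show ι' (a z) = x
      rw [← Scheme.Hom.comp_apply, ha]; exact hz
    · show ι (b z') = x
      rw [← Scheme.Hom.comp_apply, hb]; exact hz'
    · show e.hom (e.inv z') = z'
      rw [← Scheme.Hom.comp_apply, e.inv_hom_id]; rfl
  · intro z _
    rw [InsepLenLib.length_ringEquiv (asIso (e.hom.stalkMap z)).commRingCatIsoToRingEquiv]

variable {E : X.Modules}

local instance (M : X.Modules) : ModSite.HasSheafHom (O := X.sheaf) M :=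
  ModTensor.hasSheafHom (O := X.sheaf) M

/-- Evaluation of the dual at a section, as coordinates of the base. -/
def secCoord (s : E.presheaf.obj (op ⊤)) : Coord (𝟙 X) (dd E) :=
  ⟨PresheafOfModules.homMk
    { app := fun U => AddCommGrpCat.ofHom (AddMonoidHom.mk'
        (fun e => (StalkHomLib.evS E (Coh.structureModule X) e (E.presheaf.map (homOfLE (le_top : U.unop ≤ ⊤)).op s) :
          Γ(X, U.unop)))
        fun e e' => StalkHomLib.evS_add_left E _ e e' _)
      naturality := fun U V i => by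
        ext e
        rw [show i = (homOfLE (leOfHom i.unop)).op from Subsingleton.elim _ _]
        show StalkHomLib.evS E (Coh.structureModule X) ((dd E).presheaf.map (homOfLE (leOfHom i.unop)).op e)
            (E.presheaf.map (homOfLE (le_top : V.unop ≤ ⊤)).op s) =
          (Coh.structureModule X).presheaf.map (homOfLE (leOfHom i.unop)).op
            (StalkHomLib.evS E (Coh.structureModule X) e (E.presheaf.map (homOfLE (le_top : U.unop ≤ ⊤)).op s))
        rw [StalkHomLib.evS_res, ← ConcreteCategory.comp_apply (E.presheaf.map _) (E.presheaf.map _), ← Functor.map_comp]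
        rfl }
    fun U a e => StalkHomLib.evS_smul_left E _ a e _⟩

theorem sval_secCoord (s : E.presheaf.obj (op ⊤)) (x : X) (z : (dd E).presheaf.stalk x) :
    oneE X x (sval (secCoord s) x z) =
      StalkHomLib.theta E (Coh.structureModule X) x z (E.presheaf.germ ⊤ x trivial s) := by
  obtain ⟨U, hx, e, rfl⟩ := TopCat.Presheaf.exists_germ_eq (dd E).presheaf z
  refine (congrArg (oneE X x) (sval_germ (g := 𝟙 X) (secCoord s) x (U := U) hx e)).trans ?_
  refine (oneE_germ x hx _).trans ?_
  show (Coh.structureModule X).presheaf.germ U x hx (StalkHomLib.evS E _ e (E.presheaf.map _ s)) = _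
  rw [← TopCat.Presheaf.germ_res_apply E.presheaf (homOfLE (le_top : U ≤ ⊤)) x hx s, StalkHomLib.theta_germ]
  rfl

/-- A dual basis for a basis of the stalk. -/
theorem exists_dual_family {r : ℕ} (hE : FlatMod.IsFinLocFreeOfRank r E) (s : E.presheaf.obj (op ⊤)) (x : X)
    (b : Module.Basis (Fin r) (X.presheaf.stalk x) (E.presheaf.stalk x)) :
    ∃ e : Fin r → (dd E).presheaf.stalk x, Submodule.span (X.presheaf.stalk x) (Set.range e) = ⊤ ∧
      ∀ l, sval (secCoord s) x (e l) = b.repr (E.presheaf.germ ⊤ x trivial s) l := by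
  let D : (dd E).presheaf.stalk x ≃ₗ[X.presheaf.stalk x] Module.Dual (X.presheaf.stalk x) (E.presheaf.stalk x) :=
    (ddEquiv hE x).trans (LinearEquiv.congrRight (oneEquiv x).symm)
  refine ⟨fun l => D.symm (b.dualBasis l), ?_, fun l => ?_⟩
  · rw [show (fun l => D.symm (b.dualBasis l)) = ⇑(b.dualBasis.map D.symm) from funext fun l => rfl]
    exact (b.dualBasis.map D.symm).span_eq
  · have h1 := congrArg (oneE X x).symm (sval_secCoord s x (D.symm (b.dualBasis l)))
    rw [LinearEquiv.symm_apply_apply] at h1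
    refine h1.trans ?_
    have h2 : D (D.symm (b.dualBasis l)) (E.presheaf.germ ⊤ x trivial s) = b.repr (E.presheaf.germ ⊤ x trivial s) l := by
      rw [LinearEquiv.apply_symm_apply, Module.Basis.dualBasis_apply]
    exact h2

theorem mem_smul_top_iff_repr {R M : Type*} [CommRing R] [AddCommGroup M] [Module R M] {r : ℕ}
    (b : Module.Basis (Fin r) R M) (I : Ideal R) (m : M) : m ∈ I • (⊤ : Submodule R M) ↔ ∀ l, b.repr m l ∈ I := by
  constructor
  · intro hm l
    refine Submodule.smul_induction_on hm (fun a ha v _ => ?_) (fun u v hu hv => ?_)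
    · rw [map_smul, Finsupp.smul_apply, smul_eq_mul]; exact I.mul_mem_right _ ha
    · rw [map_add, Finsupp.add_apply]; exact I.add_mem hu hv
  · intro h
    rw [← b.sum_repr m]
    exact Submodule.sum_mem _ fun l _ => Submodule.smul_mem_smul (h l) trivial

/-- The pinned zero scheme of a section is the locus where its coordinates vanish. -/
theorem zeroScheme_iff {r : ℕ} (hE : FlatMod.IsFinLocFreeOfRank r E) (s : E.presheaf.obj (op ⊤)) {Z : Scheme.{u}}
    (i : Z ⟶ X) [IsClosedImmersion i]
    (hZ1 : Set.range ⇑i = {x : X | (E.presheaf.germ ⊤ x trivial) s ∈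
      IsLocalRing.maximalIdeal (X.presheaf.stalk x) • (⊤ : Submodule (X.presheaf.stalk x) (E.presheaf.stalk x))})
    (hZ2 : ∀ z : Z, ∃ b : Module.Basis (Fin r) (X.presheaf.stalk (i z)) (E.presheaf.stalk (i z)),
      RingHom.ker (i.stalkMap z).hom =
        Ideal.span (Set.range fun l : Fin r => b.repr ((E.presheaf.germ ⊤ (i z) trivial) s) l))
    {V : Scheme.{u}} {p : V ⟶ X} {c : Coord p (dd E)} (hc : IsVB p c) (S : Scheme.{u}) (k : S ⟶ X) :
    (∃ l, l ≫ i = k) ↔ pullCoord k rfl (secCoord s) = pullCoord k rfl (0 : Coord (𝟙 X) (dd E)) := by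
  have hG : FlatMod.IsFinLocFreeOfRank r (dd E) := rank_dd hE
  obtain ⟨Z0, i0, hi0, hι⟩ := exists_locus hc hG (𝟙 X) (secCoord s) 0
  have hsval0 : ∀ (x : X) (e : (dd E).presheaf.stalk x), sval (0 : Coord (𝟙 X) (dd E)) x e = 0 := fun x e => by
    obtain ⟨U, hx, e, rfl⟩ := TopCat.Presheaf.exists_germ_eq (dd E).presheaf e
    exact (sval_germ (g := 𝟙 X) (0 : Coord (𝟙 X) (dd E)) x (U := U) hx e).trans (map_zero _)
  have hfac : pullCoord i rfl (secCoord s) = pullCoord i rfl (0 : Coord (𝟙 X) (dd E)) := by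
    refine coord_ext_sval fun z e => ?_
    rw [sval_pullCoord, sval_pullCoord, hsval0, map_zero]
    obtain ⟨b, hb⟩ := hZ2 z
    obtain ⟨e', he', hv⟩ := exists_dual_family hE s (i z) b
    have := stalk_hom_eq_of_span (g := 𝟙 X) (x := i z) he' (d := secCoord s) (d' := 0) (i.stalkMap z).hom
      (fun l => by
        rw [hv, hsval0, map_zero]
        exact (RingHom.mem_ker).1 (hb ▸ Ideal.subset_span ⟨l, rfl⟩)) e
    rwa [hsval0, map_zero] at this
  obtain ⟨l, hl⟩ := (hι _ i).2 hfac
  haveI : IsClosedImmersion (l ≫ i0) := hl.symm ▸ inferInstance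
  haveI : IsClosedImmersion l := IsClosedImmersion.of_comp l i0
  haveI : Surjective l := ⟨fun y => by
    obtain ⟨e'⟩ := CurveLib.freeAt_of_isFinLocFreeOfRank hE (i0 y)
    let b := (Module.Basis.ofEquivFun e')
    obtain ⟨e, he, hv⟩ := exists_dual_family hE s (i0 y) b
    have hker := ker_stalkMap i0 (secCoord s) 0 hι hG y he
    have hy : i0 y ∈ Set.range i := by
      rw [hZ1]
      refine (mem_smul_top_iff_repr b _ _).2 fun l hu => ?_
      have hm : b.repr (E.presheaf.germ ⊤ (i0 y) trivial s) l ∈ RingHom.ker (i0.stalkMap y).hom := by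
        rw [hker]
        exact Ideal.subset_span ⟨l, (congrArg₂ (· - ·) (hv l) (hsval0 _ _)).trans (sub_zero _)⟩
      exact not_isUnit_zero ((RingHom.mem_ker).1 hm ▸ hu.map (i0.stalkMap y).hom)
    obtain ⟨z, hz⟩ := hy
    exact ⟨z, i0.isEmbedding.injective (by rw [← Scheme.Hom.comp_apply, hl]; exact hz)⟩⟩
  haveI : IsIso l := by
    refine DeformLib.isIso_of_ker_stalkMap l fun z => ?_
    rw [eq_bot_iff]
    intro a ha
    obtain ⟨a, rfl⟩ := i0.stalkMap_surjective (l z) a
    have key : ∀ (j : Z ⟶ X) (_ : j = i) (a : X.presheaf.stalk (j z)),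
        j.stalkMap z a = 0 → ∀ (y : Z0) (hy : i0 y = j z),
          i0.stalkMap y (X.presheaf.stalkSpecializes (specializes_of_eq hy) a) = 0 := by
      rintro j rfl a ha y hy
      obtain ⟨b, hb⟩ := hZ2 z
      obtain ⟨e, he, hv⟩ := exists_dual_family hE s (j z) b
      have hle : RingHom.ker (j.stalkMap z).hom ≤
          RingHom.ker ((X.presheaf.stalkSpecializes (specializes_of_eq hy)) ≫ i0.stalkMap y).hom := by
        rw [hb]
        refine Ideal.span_le.2 (Set.range_subset_iff.2 fun l => ?_)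
        rw [SetLike.mem_coe, RingHom.mem_ker, ← hv l]
        have h1 := (hι _ i0).1 ⟨𝟙 Z0, Category.id_comp _⟩
        have hs : ∀ (x : X) (hh : i0 y ⤳ x) (_ : x = i0 y) (e : (dd E).presheaf.stalk x),
            (X.presheaf.stalkSpecializes hh ≫ i0.stalkMap y).hom (sval (secCoord s) x e) = 0 := by
          rintro _ hh rfl e
          rw [TopCat.Presheaf.stalkSpecializes_refl, Category.id_comp]
          show i0.stalkMap y (sval (secCoord s) (i0 y) e) = 0
          rw [← sval_pullCoord i0 (secCoord s) y e, h1, sval_pullCoord, hsval0, map_zero]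
        exact hs _ _ hy.symm (e l)
      exact hle ha
    have h2 := key (l ≫ i0) hl a (by
      rw [Scheme.Hom.stalkMap_comp]
      exact ha) (l z) rfl
    show i0.stalkMap (l z) a = 0
    exact (congrArg (i0.stalkMap (l z)).hom
      (ConcreteCategory.congr_hom (TopCat.Presheaf.stalkSpecializes_refl X.presheaf _) a)).symm.trans h2
  rw [← hι S k]
  exact ⟨fun ⟨m, hm⟩ => ⟨m ≫ l, by rw [Category.assoc, hl, hm]⟩,
    fun ⟨m, hm⟩ => ⟨m ≫ inv l, by rw [Category.assoc, ← hl, IsIso.inv_hom_id_assoc, hm]⟩⟩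

end Groth.Agent.ZeroLocusLib
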